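import Cfsg.Agent.Lib.Spectrum.G2Four.Tables

/-!
The six-dimensional symplectic representation of `G₂(q)`, `q` even.
-/

set_option autoImplicit false

namespace CfsgLib.Spectrum.G2

open Matrix Cfsg.Lie

variable (F : Type*) [Field F] [CharP F 2]

/-- A matrix over the prime field read over `F`. -/
def lift (A : Matrix Ix Ix (ZMod 2)) : Matrix Ix Ix F := (ZMod.castHom (dvd_refl 2) F).mapMatrix A

theorem lift_add (A B : Matrix Ix Ix (ZMod 2)) : lift F (A + B) = lift F A + lift F B := map_add _ A B
theorem lift_mul (A B : Matrix Ix Ix (ZMod 2)) : lift F (A * B) = lift F A * lift F B := map_mul _ A B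
theorem lift_zero : lift F 0 = 0 := map_zero _
theorem lift_one : lift F 1 = 1 := map_one _
theorem lift_sum {ι : Type*} (s : Finset ι) (f : ι → Matrix Ix Ix (ZMod 2)) :
    lift F (∑ i ∈ s, f i) = ∑ i ∈ s, lift F (f i) := map_sum _ f s

theorem lift_smul (c : ZMod 2) (A : Matrix Ix Ix (ZMod 2)) :
    lift F (c • A) = ZMod.castHom (dvd_refl 2) F c • lift F A := by
  ext i j
  simp [lift]

theorem lift_transpose (A : Matrix Ix Ix (ZMod 2)) : lift F Aᵀ = (lift F A)ᵀ := rfl

theorem lift_form : lift F (J (Fin 3) (ZMod 2)) = J (Fin 3) F := by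
  simp [lift, J, Matrix.fromBlocks_map, Matrix.map_one, Matrix.map_neg _ (map_neg (ZMod.castHom (dvd_refl 2) F))]

/-- The root element `x_r(t)` on six coordinates. -/
def root (r : Fin chevG2.nroots) (t : F) : Matrix Ix Ix F :=
  1 + t • lift F (lin r) + t ^ 2 • lift F (quad r)

theorem root_mul_self (r : Fin chevG2.nroots) (t : F) : root F r t * root F r t = 1 := by
  obtain ⟨h1, h2, h3⟩ := square_identity r
  have e1 : lift F (lin r) * lift F (lin r) = 0 := by rw [← lift_mul, h1, lift_zero]
  have e2 : lift F (lin r) * lift F (quad r) + lift F (quad r) * lift F (lin r) = 0 := by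
    rw [← lift_mul, ← lift_mul, ← lift_add, h2, lift_zero]
  have e3 : lift F (quad r) * lift F (quad r) = 0 := by rw [← lift_mul, h3, lift_zero]
  have two : (2 : F) = 0 := CharTwo.two_eq_zero
  calc root F r t * root F r t = 1 + ((2 : F) * t) • lift F (lin r) + ((2 : F) * t ^ 2) • lift F (quad r) +
        (t * t) • (lift F (lin r) * lift F (lin r)) +
        (t * t ^ 2) • (lift F (lin r) * lift F (quad r) + lift F (quad r) * lift F (lin r)) +
        (t ^ 2 * t ^ 2) • (lift F (quad r) * lift F (quad r)) := by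
          simp only [root, mul_add, add_mul, Matrix.smul_mul, Matrix.mul_smul, smul_smul, one_mul, mul_one, smul_add]
          module
    _ = 1 := by simp [e1, e2, e3, two]

/-- The vector of the Lie algebra, over `F`. -/
def vec (w : chevG2.Idx) : Matrix Ix Ix F := lift F (basisMat w)

theorem root_conj (r : Fin chevG2.nroots) (t : F) (c : chevG2.Idx) :
    root F r t * vec F c * root F r t = ∑ w, chevG2.xMat F r t w c • vec F w := by
  obtain ⟨h0, h1, h2, h3, h4⟩ := conj_identity r c
  have hx : ∀ w, chevG2.xMat F r t w c = ∑ k ∈ Finset.range 4,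
      t ^ k * ZMod.castHom (dvd_refl 2) F (coeffMat r k w c) := fun w => by
    rw [xMat_eq_terms, sum_eq_coeff t _ (terms_lt r w c)]
    rfl
  have hrhs : ∑ w, chevG2.xMat F r t w c • vec F w =
      ∑ k ∈ Finset.range 4, t ^ k • lift F (∑ w, coeffMat r k w c • basisMat w) := by
    simp only [hx, Finset.sum_smul, lift_sum, lift_smul, Finset.smul_sum, smul_smul, vec]
    exact Finset.sum_comm
  rw [hrhs]
  simp only [Finset.sum_range_succ, Finset.sum_range_zero, zero_add]
  rw [← h0, ← h1, ← h2, ← h3]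
  have e4 : lift F (quad r) * vec F c * lift F (quad r) = 0 := by
    rw [vec, ← lift_mul, ← lift_mul, h4, lift_zero]
  simp only [lift_add, lift_mul, ← vec.eq_def]
  calc root F r t * vec F c * root F r t = vec F c +
        t • (lift F (lin r) * vec F c + vec F c * lift F (lin r)) +
        t ^ 2 • (lift F (quad r) * vec F c + lift F (lin r) * vec F c * lift F (lin r) +
          vec F c * lift F (quad r)) +
        t ^ 3 • (lift F (quad r) * vec F c * lift F (lin r) + lift F (lin r) * vec F c * lift F (quad r)) +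
        t ^ 4 • (lift F (quad r) * vec F c * lift F (quad r)) := by
          simp only [root, mul_add, add_mul, Matrix.smul_mul, Matrix.mul_smul, smul_smul, one_mul, mul_one, smul_add]
          module
    _ = _ := by simp [e4]

theorem root_form (r : Fin chevG2.nroots) (t : F) :
    root F r t * J (Fin 3) F * (root F r t)ᵀ = J (Fin 3) F := by
  obtain ⟨h1, h2, h3, h4⟩ := form_identity r
  have e1 := congrArg (lift F) h1
  have e2 := congrArg (lift F) h2
  have e3 := congrArg (lift F) h3
  have e4 := congrArg (lift F) h4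
  simp only [lift_add, lift_mul, lift_transpose, lift_form, lift_zero] at e1 e2 e3 e4
  calc root F r t * J (Fin 3) F * (root F r t)ᵀ = J (Fin 3) F +
        t • (lift F (lin r) * J (Fin 3) F + J (Fin 3) F * (lift F (lin r))ᵀ) +
        t ^ 2 • (lift F (quad r) * J (Fin 3) F + lift F (lin r) * J (Fin 3) F * (lift F (lin r))ᵀ +
          J (Fin 3) F * (lift F (quad r))ᵀ) +
        t ^ 3 • (lift F (quad r) * J (Fin 3) F * (lift F (lin r))ᵀ +
          lift F (lin r) * J (Fin 3) F * (lift F (quad r))ᵀ) +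
        t ^ 4 • (lift F (quad r) * J (Fin 3) F * (lift F (quad r))ᵀ) := by
          simp only [root, Matrix.transpose_add, Matrix.transpose_smul, Matrix.transpose_one, mul_add, add_mul,
            Matrix.smul_mul, Matrix.mul_smul, smul_smul, one_mul, mul_one, smul_add]
          module
    _ = _ := by simp [e1, e2, e3, e4]

/-- The pairs of corresponding root elements. -/
def pairs : Subgroup (GL chevG2.Idx F × GL Ix F) :=
  Subgroup.closure {p | ∃ (r : Fin chevG2.nroots) (t : F),
    (p.1 : Matrix chevG2.Idx chevG2.Idx F) = chevG2.xMat F r t ∧ (p.2 : Matrix Ix Ix F) = root F r t}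

/-- What corresponding elements satisfy. -/
def Compatible (p : GL chevG2.Idx F × GL Ix F) : Prop :=
  (∀ c, (p.2 : Matrix Ix Ix F) * vec F c * ((p.2⁻¹ : GL Ix F) : Matrix Ix Ix F) =
      ∑ w, (p.1 : Matrix chevG2.Idx chevG2.Idx F) w c • vec F w) ∧
    (p.2 : Matrix Ix Ix F) * J (Fin 3) F * (p.2 : Matrix Ix Ix F)ᵀ = J (Fin 3) F

theorem compatible_mul {a b : GL chevG2.Idx F × GL Ix F} (ha : Compatible F a) (hb : Compatible F b) :
    Compatible F (a * b) := by
  refine ⟨fun c => ?_, ?_⟩
  · simp only [Prod.fst_mul, Prod.snd_mul, _root_.mul_inv_rev, Units.val_mul]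
    calc (a.2 : Matrix Ix Ix F) * b.2 * vec F c *
          (((b.2⁻¹ : GL Ix F) : Matrix Ix Ix F) * ((a.2⁻¹ : GL Ix F) : Matrix Ix Ix F)) =
        (a.2 : Matrix Ix Ix F) * ((b.2 : Matrix Ix Ix F) * vec F c * ((b.2⁻¹ : GL Ix F) : Matrix Ix Ix F)) *
          ((a.2⁻¹ : GL Ix F) : Matrix Ix Ix F) := by simp only [mul_assoc]
      _ = ∑ u, (b.1 : Matrix chevG2.Idx chevG2.Idx F) u c •
          ∑ w, (a.1 : Matrix chevG2.Idx chevG2.Idx F) w u • vec F w := by
        rw [hb.1 c, Finset.mul_sum, Finset.sum_mul]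
        refine Finset.sum_congr rfl fun u _ => ?_
        rw [Matrix.mul_smul, Matrix.smul_mul, ha.1 u]
      _ = _ := by
        simp only [Finset.smul_sum, smul_smul, Matrix.mul_apply, Finset.sum_smul]
        rw [Finset.sum_comm]
        refine Finset.sum_congr rfl fun w _ => Finset.sum_congr rfl fun u _ => ?_
        rw [mul_comm]
  · simp only [Prod.snd_mul, Units.val_mul, Matrix.transpose_mul]
    calc (a.2 : Matrix Ix Ix F) * b.2 * J (Fin 3) F * ((b.2 : Matrix Ix Ix F)ᵀ * (a.2 : Matrix Ix Ix F)ᵀ) =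
        (a.2 : Matrix Ix Ix F) * ((b.2 : Matrix Ix Ix F) * J (Fin 3) F * (b.2 : Matrix Ix Ix F)ᵀ) *
          (a.2 : Matrix Ix Ix F)ᵀ := by simp only [mul_assoc]
      _ = _ := by rw [hb.2, ha.2]

theorem compatible_of_mem [Finite F] {p : GL chevG2.Idx F × GL Ix F} (hp : p ∈ pairs F) :
    Compatible F p := by
  classical
  haveI : Finite (GL chevG2.Idx F × GL Ix F) := inferInstance
  rw [pairs, ← Subgroup.mem_toSubmonoid, Subgroup.closure_toSubmonoid_of_finite] at hp
  induction hp using Submonoid.closure_induction with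
  | mem p hp =>
    obtain ⟨r, t, h1, h2⟩ := hp
    have hinv : ((p.2⁻¹ : GL Ix F) : Matrix Ix Ix F) = root F r t := by
      have hsq : p.2 * p.2 = 1 := Units.ext (by rw [Units.val_mul, h2, root_mul_self, Units.val_one])
      rw [inv_eq_of_mul_eq_one_right hsq, h2]
    exact ⟨fun c => by rw [hinv, h2, h1]; exact root_conj F r t c, by rw [h2]; exact root_form F r t⟩
  | one =>
    refine ⟨fun c => ?_, by simp⟩
    simp [Matrix.one_apply]
  | mul a b _ _ ha hb => exact compatible_mul F ha hb

theorem fst_map_pairs : (pairs F).map (MonoidHom.fst _ _) = chevG2.group F := by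
  rw [pairs, MonoidHom.map_closure, ChevalleyDatum.group]
  congr 1
  ext g
  constructor
  · rintro ⟨p, ⟨r, t, h1, -⟩, rfl⟩
    exact ⟨r, t, h1⟩
  · rintro ⟨r, t, h⟩
    exact ⟨(g, ⟨root F r t, root F r t, root_mul_self F r t, root_mul_self F r t⟩), ⟨r, t, h, rfl⟩, rfl⟩

theorem snd_eq_one [Finite F] {p : GL chevG2.Idx F × GL Ix F} (hp : p ∈ pairs F) (h : p.1 = 1) :
    p.2 = 1 := by
  obtain ⟨hA, hJ⟩ := compatible_of_mem F hp
  have hcomm : ∀ w, Commute (p.2 : Matrix Ix Ix F) (vec F w) := fun w => by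
    have h1 := hA w
    rw [h, Units.val_one] at h1
    simp only [Matrix.one_apply, ite_smul, one_smul, zero_smul, Finset.sum_ite_eq', Finset.mem_univ, if_true] at h1
    have h2 := congrArg (· * (p.2 : Matrix Ix Ix F)) h1
    simp only [mul_assoc, Units.inv_mul, mul_one] at h2
    exact h2
  have hlin : ∀ a : Fin 12, Commute (p.2 : Matrix Ix Ix F) (lift F (lin a)) := fun a => hcomm (Sum.inr a)
  obtain ⟨c, hc⟩ := Matrix.mem_range_scalar_of_commute_single (M := (p.2 : Matrix Ix Ix F)) fun i j hij => by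
    obtain ⟨a, b, hab⟩ := single_eq_product i j hij
    have h1 := congrArg (lift F) hab
    rw [lift_mul] at h1
    have h2 : lift F (Matrix.single i j (1 : ZMod 2)) = Matrix.single i j (1 : F) := by
      simp [lift]
    rw [h2] at h1
    rw [h1]
    exact ((hlin a).mul_right (hlin b)).symm
  rw [← hc] at hJ
  have hc2 : c * c = 1 := by
    have h1 := congrFun (congrFun hJ (Sum.inr 0)) (Sum.inl 0)
    simpa [Matrix.scalar_apply, Matrix.diagonal_transpose, J] using h1
  have hc1 : c = 1 := by
    rcases mul_self_eq_one_iff.1 hc2 with h' | h'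
    · exact h'
    · rw [h', CharTwo.neg_eq]
  exact Units.ext (by rw [← hc, hc1, map_one, Units.val_one])

theorem fst_eq_one [Finite F] {p : GL chevG2.Idx F × GL Ix F} (hp : p ∈ pairs F) (h : p.2 = 1) :
    p.1 = 1 := by
  obtain ⟨hA, -⟩ := compatible_of_mem F hp
  refine Units.ext (Matrix.ext fun u c => ?_)
  have h1 := hA c
  rw [h, inv_one, Units.val_one, one_mul, mul_one] at h1
  have h2 := congrFun (congrFun h1 (probe u).1) (probe u).2
  have hv : ∀ w, vec F w (probe u).1 (probe u).2 = if w = u then 1 else 0 := fun w => by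
    simp only [vec, lift, RingHom.mapMatrix_apply, Matrix.map_apply, basisMat_probe]
    split_ifs <;> simp
  simp only [Matrix.sum_apply, Matrix.smul_apply, smul_eq_mul, hv, mul_ite, mul_one, mul_zero,
    Finset.sum_ite_eq', Finset.mem_univ, if_true] at h2
  rw [Units.val_one, Matrix.one_apply, ← h2]
  by_cases hcu : c = u
  · simp [hcu]
  · simp [hcu, Ne.symm hcu]

/-- The embedding of `G₂(F)` into `Sp₆(F)`, defined on root elements. -/
theorem exists_embedding [Finite F] :
    ∃ φ : ↥(chevG2.group F) →* GL Ix F, Function.Injective φ ∧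
      (∀ g, (φ g : Matrix Ix Ix F) ∈ Matrix.symplecticGroup (Fin 3) F) ∧
      ∀ (g : ↥(chevG2.group F)) (r : Fin chevG2.nroots) (t : F),
        ((g : GL chevG2.Idx F) : Matrix chevG2.Idx chevG2.Idx F) = chevG2.xMat F r t →
          (φ g : Matrix Ix Ix F) = root F r t := by
  classical
  let π : pairs F →* ↥(chevG2.group F) :=
    ((MonoidHom.fst _ _).comp (pairs F).subtype).codRestrict (chevG2.group F)
      fun p => fst_map_pairs F ▸ ⟨p.1, p.2, rfl⟩
  have hπ : Function.Bijective π := by
    refine ⟨(injective_iff_map_eq_one π).2 fun p hp => ?_, fun g => ?_⟩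
    · have h1 : (p : GL chevG2.Idx F × GL Ix F).1 = 1 := congrArg Subtype.val hp
      exact Subtype.ext (Prod.ext h1 (snd_eq_one F p.2 h1))
    · obtain ⟨p, hp, hpg⟩ := (fst_map_pairs F).ge g.2
      exact ⟨⟨p, hp⟩, Subtype.ext hpg⟩
  let e := MulEquiv.ofBijective π hπ
  let φ : ↥(chevG2.group F) →* GL Ix F :=
    ((MonoidHom.snd _ _).comp (pairs F).subtype).comp e.symm.toMonoidHom
  have hfst : ∀ g, (e.symm g : GL chevG2.Idx F × GL Ix F).1 = (g : GL chevG2.Idx F) := fun g =>
    congrArg Subtype.val (e.apply_symm_apply g)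
  refine ⟨φ, (injective_iff_map_eq_one φ).2 fun g hg => ?_, fun g =>
    SymplecticGroup.mem_iff.2 (compatible_of_mem F (e.symm g).2).2, fun g r t hg => ?_⟩
  · apply Subtype.ext
    obtain ⟨hA, -⟩ := compatible_of_mem F (e.symm g).2
    have h1 : (e.symm g : GL chevG2.Idx F × GL Ix F).2 = 1 := hg
    rw [← hfst g, fst_eq_one F (e.symm g).2 h1]
    rfl
  · let u : GL Ix F := ⟨root F r t, root F r t, root_mul_self F r t, root_mul_self F r t⟩
    have hmem : ((g : GL chevG2.Idx F), u) ∈ pairs F := Subgroup.subset_closure ⟨r, t, hg, rfl⟩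
    have : e.symm g = ⟨_, hmem⟩ := e.symm_apply_eq.2 (Subtype.ext rfl)
    change ((e.symm g : GL chevG2.Idx F × GL Ix F).2 : Matrix Ix Ix F) = _
    rw [this]

end CfsgLib.Spectrum.G2
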