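import Cfsg.Agent.Lib.Spectrum.G2Four.Rep
import Cfsg.Agent.Lib.Chev.Data.G2
import Cfsg.Agent.Lib.Chev.Mono

/-!
Elements of order `6` and `10` in `G₂(4)`.
-/

set_option autoImplicit false

namespace CfsgLib.Spectrum.G2

open Matrix Cfsg.Lie

theorem sameSp_of_eq {a b : List (Ix × Ix)} (h : sp a = sp b) : sameSp a b := by
  intro p _
  have h1 := congrFun (congrFun h p.1) p.2
  rw [sp_apply, sp_apply, ZMod.natCast_eq_natCast_iff'] at h1
  change (cnt a (p.1, p.2) + cnt b (p.1, p.2)) % 2 = 0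
  omega

/-- The places of the identity. -/
def idL : List (Ix × Ix) := (List.finRange 6).map fun n => (coord n, coord n)

theorem sp_idL : sp idL = 1 := by
  ext i j
  rw [sp_apply, Matrix.one_apply]
  revert i j
  decide +kernel

/-- `a + ω b` for sparse `a` and `b`. -/
abbrev Pair : Type := List (Ix × Ix) × List (Ix × Ix)

/-- Reduce a list of places modulo two. -/
def red (a : List (Ix × Ix)) : List (Ix × Ix) :=
  ((List.finRange 6).flatMap fun i => (List.finRange 6).map fun j => (coord i, coord j)).filter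
    fun p => decide (cnt a p % 2 = 1)

theorem sp_red (a : List (Ix × Ix)) : sp (red a) = sp a := by
  ext i j
  rw [sp_apply, sp_apply]
  have h : ∀ p : Ix × Ix, cnt ((List.finRange 6).flatMap fun i => (List.finRange 6).map fun j => (coord i, coord j)) p = 1 := by
    decide +kernel
  have h1 : cnt (red a) (i, j) = if cnt a (i, j) % 2 = 1 then 1 else 0 := by
    rw [cnt, red, List.countP_filter]
    split_ifs with hp
    · refine (List.countP_congr fun x _ => ?_).trans (h (i, j))
      by_cases hx : x = (i, j) <;> simp [hx, hp]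
    · refine List.countP_eq_zero.2 fun x _ => ?_
      by_cases hx : x = (i, j) <;> simp [hx, hp]
  rw [h1, ZMod.natCast_eq_natCast_iff']
  split_ifs <;> omega

/-- Multiplication, with `ω² = ω + 1`. -/
def pmul (x y : Pair) : Pair :=
  (red (mulL x.1 y.1 ++ mulL x.2 y.2), red (mulL x.1 y.2 ++ mulL x.2 y.1 ++ mulL x.2 y.2))

/-- Powers. -/
def ppow (x : Pair) : ℕ → Pair
  | 0 => (idL, [])
  | n + 1 => pmul (ppow x n) x

/-- `x_r(1)`. -/
def rootOne (r : Fin 12) : Pair := (idL ++ linL r ++ quadL r, [])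

/-- `x_r(ω)`. -/
def rootOmega (r : Fin 12) : Pair := (idL ++ quadL r, linL r ++ quadL r)

/-- An element of order six. -/
def six : Pair := pmul (rootOne 11) (pmul (rootOne 7) (rootOne 4))

/-- An element of order ten. -/
def ten : Pair := pmul (rootOne 11) (pmul (rootOne 7) (rootOmega 4))

/-- The test that a pair is the identity. -/
def IsOne (x : Pair) : Prop := sameSp x.1 idL ∧ sameSp x.2 []

instance (x : Pair) : Decidable (IsOne x) := by unfold IsOne; infer_instance

theorem six_check : IsOne (ppow six 6) ∧ ¬ IsOne (ppow six 3) ∧ ¬ IsOne (ppow six 2) := by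
  decide +kernel

theorem ten_check : IsOne (ppow ten 10) ∧ ¬ IsOne (ppow ten 5) ∧ ¬ IsOne (ppow ten 2) := by
  decide +kernel

variable (F : Type*) [Field F] [CharP F 2] (ω : F)

/-- The value of a pair. -/
def ev (x : Pair) : Matrix Ix Ix F := lift F (sp x.1) + ω • lift F (sp x.2)

theorem ev_one : ev F ω (idL, []) = 1 := by
  rw [ev, sp_idL, lift_one, show sp [] = 0 by simp [sp], lift_zero, smul_zero, add_zero]

theorem ev_mul (hω : ω * ω = ω + 1) (x y : Pair) : ev F ω (pmul x y) = ev F ω x * ev F ω y := by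
  simp only [ev, pmul, sp_red, sp_append, ← sp_mul, lift_add, lift_mul, mul_add, add_mul,
    Matrix.smul_mul, Matrix.mul_smul, smul_smul, hω, smul_add, add_smul, one_smul]
  abel

theorem ev_pow (hω : ω * ω = ω + 1) (x : Pair) : ∀ n, ev F ω (ppow x n) = ev F ω x ^ n
  | 0 => by rw [ppow, ev_one, pow_zero]
  | n + 1 => by rw [ppow, ev_mul F ω hω, ev_pow hω x n, pow_succ]

theorem ev_eq_one_iff (h0 : ω ≠ 0) (h1 : ω ≠ 1) (x : Pair) : ev F ω x = 1 ↔ IsOne x := by
  constructor
  · intro h
    have key : ∀ a b c : ZMod 2, ZMod.castHom (dvd_refl 2) F a + ω * ZMod.castHom (dvd_refl 2) F b =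
        ZMod.castHom (dvd_refl 2) F c → a = c ∧ b = 0 := by
      intro a b c
      have two : (1 : F) + 1 = 0 := by rw [one_add_one_eq_two, CharTwo.two_eq_zero]
      rcases (by revert a; decide : a = 0 ∨ a = 1) with rfl | rfl <;>
      rcases (by revert b; decide : b = 0 ∨ b = 1) with rfl | rfl <;>
      rcases (by revert c; decide : c = 0 ∨ c = 1) with rfl | rfl <;>
      simp [h0, h1]
      intro hh
      exact h1 ((eq_neg_of_add_eq_zero_right hh).trans (CharTwo.neg_eq 1))
    have h' : ∀ i j, sp x.1 i j = sp idL i j ∧ sp x.2 i j = 0 := fun i j => by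
      refine key _ _ _ ?_
      have h2 := congrFun (congrFun h i) j
      rw [← lift_one, ← sp_idL] at h2
      simpa [ev, lift] using h2
    refine ⟨sameSp_of_eq (Matrix.ext fun i j => (h' i j).1), sameSp_of_eq ?_⟩
    ext i j
    rw [(h' i j).2]
    simp [sp]
  · rintro ⟨ha, hb⟩
    rw [ev, sp_eq ha, sp_eq_zero hb, sp_idL, lift_one, lift_zero, smul_zero, add_zero]

theorem root_one (r : Fin 12) : root F r 1 = ev F ω (rootOne r) := by
  simp [root, ev, rootOne, sp_append, sp_idL, lift_add, lift_one, lin, quad, show sp [] = 0 by simp [sp], lift_zero, add_assoc]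

theorem root_omega (hω : ω * ω = ω + 1) (r : Fin 12) : root F r ω = ev F ω (rootOmega r) := by
  simp only [root, ev, rootOmega, sp_append, sp_idL, lift_add, lift_one, lin, quad, pow_two, hω, smul_add,
    add_smul, one_smul]
  abel

theorem exists_omega [Fintype F] (h4 : Fintype.card F = 4) : ∃ w : F, w * w = w + 1 ∧ w ≠ 0 ∧ w ≠ 1 := by
  classical
  obtain ⟨w, hw0, hw1⟩ : ∃ w : F, w ≠ 0 ∧ w ≠ 1 := by
    by_contra h
    simp only [not_exists, not_and, not_not] at h
    have hsub : (Finset.univ : Finset F) ⊆ {0, 1} := fun x _ => by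
      by_cases hx : x = 0
      · simp [hx]
      · simp [h x hx]
    have := (Finset.card_le_card hsub).trans (Finset.card_le_two)
    rw [Finset.card_univ, h4] at this
    omega
  refine ⟨w, ?_, hw0, hw1⟩
  have h3 : w ^ 3 = 1 := by
    have := FiniteField.pow_card_sub_one_eq_one w hw0
    rwa [h4] at this
  have hfac : (w - 1) * (w * w + w + 1) = 0 := by linear_combination h3
  have h := (mul_eq_zero.1 hfac).resolve_left (sub_ne_zero.2 hw1)
  linear_combination h - (w + 1) * (CharTwo.two_eq_zero : (2 : F) = 0)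

theorem exists_orders [Fintype F] (h4 : Fintype.card F = 4) :
    (∃ g : ↥(chevG2.group F), orderOf g = 6) ∧ ∃ g : ↥(chevG2.group F), orderOf g = 10 := by
  obtain ⟨ω, hω, h0, h1⟩ := exists_omega F h4
  obtain ⟨φ, hinj, -, hroot⟩ := exists_embedding F
  let x : Fin chevG2.nroots → F → ↥(chevG2.group F) := fun r t =>
    ⟨CfsgLib.Chev.xU chevG2 r.val t, Subgroup.subset_closure ⟨r, t, by
      rw [CfsgLib.Chev.DataG2.facts.xU_val r.isLt, ChevalleyDatum.x, dif_pos r.isLt]⟩⟩
  have hx : ∀ r t, (φ (x r t) : Matrix Ix Ix F) = root F r t := fun r t => hroot _ r t (by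
    change ((CfsgLib.Chev.xU chevG2 r.val t : GL chevG2.Idx F) : Matrix chevG2.Idx chevG2.Idx F) = _
    rw [CfsgLib.Chev.DataG2.facts.xU_val r.isLt, ChevalleyDatum.x, dif_pos r.isLt])
  have main : ∀ (g : ↥(chevG2.group F)) (p : Pair), (φ g : Matrix Ix Ix F) = ev F ω p →
      ∀ n, g ^ n = 1 ↔ IsOne (ppow p n) := by
    intro g p hg n
    rw [← ev_eq_one_iff F ω h0 h1, ev_pow F ω hω, ← hg, ← Units.val_pow_eq_pow_val, Units.val_eq_one,
      ← map_pow, map_eq_one_iff φ hinj]
  refine ⟨⟨x ⟨11, by decide +kernel⟩ 1 * (x ⟨7, by decide +kernel⟩ 1 * x ⟨4, by decide +kernel⟩ 1), ?_⟩,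
    ⟨x ⟨11, by decide +kernel⟩ 1 * (x ⟨7, by decide +kernel⟩ 1 * x ⟨4, by decide +kernel⟩ ω), ?_⟩⟩
  · obtain ⟨a, b, c⟩ := six_check
    have hg := main (x ⟨11, by decide +kernel⟩ 1 * (x ⟨7, by decide +kernel⟩ 1 * x ⟨4, by decide +kernel⟩ 1)) six (by
      simp only [map_mul, Units.val_mul, hx, six, ev_mul F ω hω]
      exact congrArg₂ (· * ·) (root_one F ω 11) (congrArg₂ (· * ·) (root_one F ω 7) (root_one F ω 4)))
    refine orderOf_eq_of_pow_and_pow_div_prime (by norm_num) ((hg 6).2 a) fun p hp hd h => ?_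
    rw [hg] at h
    rcases (Nat.Prime.dvd_mul hp).1 (show p ∣ 2 * 3 from hd) with hd | hd
    · obtain rfl := (Nat.prime_dvd_prime_iff_eq hp Nat.prime_two).1 hd
      exact b (by simpa using h)
    · obtain rfl := (Nat.prime_dvd_prime_iff_eq hp Nat.prime_three).1 hd
      exact c (by simpa using h)
  · obtain ⟨a, b, c⟩ := ten_check
    have hg := main (x ⟨11, by decide +kernel⟩ 1 * (x ⟨7, by decide +kernel⟩ 1 * x ⟨4, by decide +kernel⟩ ω)) ten (by
      simp only [map_mul, Units.val_mul, hx, ten, ev_mul F ω hω]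
      exact congrArg₂ (· * ·) (root_one F ω 11) (congrArg₂ (· * ·) (root_one F ω 7) (root_omega F ω hω 4)))
    refine orderOf_eq_of_pow_and_pow_div_prime (by norm_num) ((hg 10).2 a) fun p hp hd h => ?_
    rw [hg] at h
    rcases (Nat.Prime.dvd_mul hp).1 (show p ∣ 2 * 5 from hd) with hd | hd
    · obtain rfl := (Nat.prime_dvd_prime_iff_eq hp Nat.prime_two).1 hd
      exact b (by simpa using h)
    · obtain rfl := (Nat.prime_dvd_prime_iff_eq hp Nat.prime_five).1 hd
      exact c (by simpa using h)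

end CfsgLib.Spectrum.G2
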