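import Mathlib
import Cfsg.Prelude.Def_ChevG2

/-!
The six-dimensional representation of `G₂` in characteristic two: tables over the field with two elements.
-/

set_option autoImplicit false

namespace CfsgLib.Spectrum.G2

open Matrix Cfsg.Lie

/-- The six coordinates. -/
abbrev Ix : Type := Fin 3 ⊕ Fin 3

/-- The number of a coordinate. -/
def code : Ix → ℕ
  | Sum.inl i => i.val
  | Sum.inr i => i.val + 3

/-- The coordinate with a given number. -/
def coord (n : Fin 6) : Ix := if h : n.val < 3 then Sum.inl ⟨n.val, h⟩ else Sum.inr ⟨n.val - 3, by omega⟩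

/-- A sparse matrix: the sum of the matrix units at the listed places. -/
def sp (l : List (Ix × Ix)) : Matrix Ix Ix (ZMod 2) :=
  (l.map fun p => Matrix.single p.1 p.2 (1 : ZMod 2)).sum

theorem sp_append (a b : List (Ix × Ix)) : sp (a ++ b) = sp a + sp b := by
  simp [sp, List.map_append, List.sum_append]

/-- The places of a product. -/
def mulL (a b : List (Ix × Ix)) : List (Ix × Ix) :=
  a.flatMap fun p => (b.filter fun q => q.1 = p.2).map fun q => (p.1, q.2)

theorem sp_single_mul (p : Ix × Ix) : ∀ b : List (Ix × Ix), Matrix.single p.1 p.2 (1 : ZMod 2) * sp b =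
    sp ((b.filter fun q => q.1 = p.2).map fun q => (p.1, q.2))
  | [] => by simp [sp]
  | q :: b => by
    have hq : sp (q :: b) = Matrix.single q.1 q.2 (1 : ZMod 2) + sp b := by simp [sp]
    rw [hq, mul_add, sp_single_mul p b]
    by_cases h : q.1 = p.2
    · rw [List.filter_cons_of_pos (by simp [h]), h, Matrix.single_mul_single_same, one_mul]
      simp [sp]
    · rw [List.filter_cons_of_neg (by simp [h]), Matrix.single_mul_single_of_ne _ _ _ _ (Ne.symm h), zero_add]

theorem sp_mul : ∀ a b : List (Ix × Ix), sp a * sp b = sp (mulL a b)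
  | [], b => by simp [sp, mulL]
  | p :: a, b => by
    have hp : sp (p :: a) = Matrix.single p.1 p.2 (1 : ZMod 2) + sp a := by simp [sp]
    rw [hp, add_mul, sp_single_mul, sp_mul a b, ← sp_append]
    simp [mulL]

theorem sp_smul (c : ZMod 2) (l : List (Ix × Ix)) : c • sp l = sp (if c = 1 then l else []) := by
  rcases (by revert c; decide : c = 0 ∨ c = 1) with rfl | rfl <;> simp [sp]

theorem sp_transpose : ∀ l : List (Ix × Ix), (sp l)ᵀ = sp (l.map Prod.swap)
  | [] => by simp [sp]
  | p :: l => by
    have hp : sp (p :: l) = Matrix.single p.1 p.2 (1 : ZMod 2) + sp l := by simp [sp]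
    rw [hp, Matrix.transpose_add, sp_transpose l, Matrix.transpose_single]
    simp [sp]

/-- The number of occurrences of a place. -/
def cnt (l : List (Ix × Ix)) (p : Ix × Ix) : ℕ := l.countP fun x => decide (x = p)

theorem sp_apply : ∀ (l : List (Ix × Ix)) (i j : Ix), sp l i j = (cnt l (i, j) : ZMod 2)
  | [], i, j => by simp [sp, cnt]
  | p :: l, i, j => by
    have hp : sp (p :: l) = Matrix.single p.1 p.2 (1 : ZMod 2) + sp l := by simp [sp]
    rw [hp, Matrix.add_apply, sp_apply l, cnt, cnt, List.countP_cons, Matrix.single_apply, Nat.cast_add,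
      add_comm]
    congr 1
    by_cases h : p = (i, j)
    · subst h; simp
    · have h' : ¬ (p.1 = i ∧ p.2 = j) := fun h' => h (Prod.ext h'.1 h'.2)
      simp [h, h']

/-- Equality of sparse matrices, as a decidable test on the places. -/
def sameSp (a b : List (Ix × Ix)) : Prop :=
  ∀ p ∈ a ++ b, (cnt a p + cnt b p) % 2 = 0

instance (a b : List (Ix × Ix)) : Decidable (sameSp a b) := by unfold sameSp; infer_instance

theorem sp_eq {a b : List (Ix × Ix)} (h : sameSp a b) : sp a = sp b := by
  ext i j
  rw [sp_apply, sp_apply]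
  have h2 : (cnt a (i, j) + cnt b (i, j)) % 2 = 0 := by
    by_cases hm : (i, j) ∈ a ++ b
    · exact h _ hm
    · rw [List.mem_append, not_or] at hm
      have hz : ∀ l : List (Ix × Ix), (i, j) ∉ l → cnt l (i, j) = 0 := fun l hl =>
        List.countP_eq_zero.2 fun x hx hxe => hl (of_decide_eq_true hxe ▸ hx)
      rw [hz a hm.1, hz b hm.2]
  rw [ZMod.natCast_eq_natCast_iff']
  omega

theorem sp_eq_zero {a : List (Ix × Ix)} (h : sameSp a []) : sp a = 0 := (sp_eq h).trans (by simp [sp])

/-- Places of the linear terms. -/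
def linTab : List (List (Fin 6 × Fin 6)) :=
  [[(3, 1), (4, 0)], [(3, 2), (5, 0)], [(4, 2), (5, 1)], [(2, 0), (3, 5)], [(1, 0), (3, 4)],
    [(2, 1), (4, 5)], [(1, 2), (5, 4)], [(0, 1), (4, 3)], [(0, 2), (5, 3)], [(1, 5), (2, 4)],
    [(0, 5), (2, 3)], [(0, 4), (1, 3)]]

/-- Places of the quadratic terms. -/
def quadTab : List (List (Fin 6 × Fin 6)) :=
  [[], [], [(3, 0)], [(4, 1)], [(5, 2)], [], [], [(2, 5)], [(1, 4)], [(0, 3)], [], []]

/-- The linear term of a root element. -/
def linL (r : Fin 12) : List (Ix × Ix) := (linTab.getD r.val []).map fun p => (coord p.1, coord p.2)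

/-- The linear term, as a matrix. -/
def lin (r : Fin 12) : Matrix Ix Ix (ZMod 2) := sp (linL r)

/-- The quadratic term of a root element. -/
def quadL (r : Fin 12) : List (Ix × Ix) := (quadTab.getD r.val []).map fun p => (coord p.1, coord p.2)

/-- The quadratic term, as a matrix. -/
def quad (r : Fin 12) : Matrix Ix Ix (ZMod 2) := sp (quadL r)

/-- The vectors of the Lie algebra. -/
def basisL : chevG2.Idx → List (Ix × Ix)
  | Sum.inl i => if i.val = 0 then mulL (linL 7) (linL 4) ++ mulL (linL 4) (linL 7)
      else mulL (linL 6) (linL 5) ++ mulL (linL 5) (linL 6)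
  | Sum.inr s => linL s

/-- The vectors, as matrices. -/
def basisMat (w : chevG2.Idx) : Matrix Ix Ix (ZMod 2) := sp (basisL w)

/-- The terms of an entry of a root element in the adjoint representation. -/
def terms (r : Fin chevG2.nroots) (row col : chevG2.Idx) : List (ℕ × ℤ) :=
  match col with
  | Sum.inl i =>
    (match row with
     | Sum.inl i' => if i' = i then [(0, 1)] else []
     | Sum.inr u => if u = r then [(1, - ((chevG2.cartanSR.getD i.val #[]).getD r.val 0 : ℤ))] else [])
  | Sum.inr s =>
    if s = r then (match row with | Sum.inr u => if u = r then [(0, 1)] else [] | Sum.inl _ => [])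
    else if s.val = chevG2.negIdx.getD r.val 0 then
      (match row with
       | Sum.inl i => [(1, ((chevG2.coroot.getD r.val #[]).getD i.val 0 : ℤ))]
       | Sum.inr u => if u = s then [(0, 1)] else if u = r then [(2, -1)] else [])
    else
      (match row with
       | Sum.inl _ => []
       | Sum.inr u => (if u = s then [(0, 1)] else []) ++ chevG2.chainCoeff r.val s.val u.val)

/-- The coefficient of `t ^ k`. -/
def coeffMat (r : Fin chevG2.nroots) (k : ℕ) (row col : chevG2.Idx) : ZMod 2 :=
  (((terms r row col).filter fun p => p.1 = k).map fun p => ((p.2 : ℤ) : ZMod 2)).sum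

theorem terms_lt : ∀ (r : Fin chevG2.nroots) (row col : chevG2.Idx),
    ∀ p ∈ terms r row col, p.1 < 4 := by
  decide +kernel

theorem xMat_eq_terms (F : Type*) [Field F] (r : Fin chevG2.nroots) (t : F) (row col : chevG2.Idx) :
    chevG2.xMat F r t row col = ((terms r row col).map fun p => ((p.2 : ℤ) : F) * t ^ p.1).sum := by
  unfold ChevalleyDatum.xMat terms
  rcases col with i | s <;> rcases row with i' | u <;> simp only [Matrix.of_apply]
  all_goals (repeat' split_ifs) <;> simp_all

theorem sum_eq_coeff {F : Type*} [Field F] [CharP F 2] (t : F) :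
    ∀ l : List (ℕ × ℤ), (∀ p ∈ l, p.1 < 4) →
      (l.map fun p => ((p.2 : ℤ) : F) * t ^ p.1).sum = ∑ k ∈ Finset.range 4,
        t ^ k * ZMod.castHom (dvd_refl 2) F ((l.filter fun p => p.1 = k).map fun p => ((p.2 : ℤ) : ZMod 2)).sum
  | [], _ => by simp
  | p :: l, h => by
    have hp : p.1 ∈ Finset.range 4 := Finset.mem_range.2 (h p (List.mem_cons_self ..))
    rw [List.map_cons, List.sum_cons, sum_eq_coeff t l fun q hq => h q (List.mem_cons_of_mem _ hq)]
    rw [← Finset.add_sum_erase _ _ hp, ← Finset.add_sum_erase _ _ hp,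
      List.filter_cons_of_pos (by simp), List.map_cons, List.sum_cons, map_add, map_intCast, mul_add,
      mul_comm (t ^ p.1) ((p.2 : ℤ) : F), add_assoc]
    congr 2
    refine Finset.sum_congr rfl fun k hk => ?_
    rw [List.filter_cons_of_neg (by simp; exact (Finset.ne_of_mem_erase hk).symm)]

/-- Conjugation by a root element on the Lie algebra, coefficient by coefficient. -/
def ConjIdentity (r : Fin 12) (c : chevG2.Idx) : Prop :=
  basisMat c = ∑ w, coeffMat r 0 w c • basisMat w ∧
  lin r * basisMat c + basisMat c * lin r = ∑ w, coeffMat r 1 w c • basisMat w ∧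
  quad r * basisMat c + lin r * basisMat c * lin r + basisMat c * quad r =
    ∑ w, coeffMat r 2 w c • basisMat w ∧
  quad r * basisMat c * lin r + lin r * basisMat c * quad r = ∑ w, coeffMat r 3 w c • basisMat w ∧
  quad r * basisMat c * quad r = 0

/-- The fourteen indices. -/
def idxList : List chevG2.Idx :=
  (List.finRange chevG2.rank).map Sum.inl ++ (List.finRange chevG2.nroots).map Sum.inr

theorem sum_idx {M : Type*} [AddCommMonoid M] (f : chevG2.Idx → M) : ∑ w, f w = (idxList.map f).sum := by
  rw [idxList, List.map_append, List.sum_append, List.map_map, List.map_map, Fintype.sum_sum_type]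
  congr 1 <;> exact (Finset.sum_map_toList _ _).symm.trans (by simp [List.sum_ofFn, ← List.ofFn_eq_map])

/-- The places of a combination of the vectors. -/
def combL (r : Fin 12) (k : ℕ) (c : chevG2.Idx) : List (Ix × Ix) :=
  idxList.flatMap fun w => if coeffMat r k w c = 1 then basisL w else []

theorem sp_combL (r : Fin 12) (k : ℕ) (c : chevG2.Idx) :
    ∑ w, coeffMat r k w c • basisMat w = sp (combL r k c) := by
  rw [sum_idx, combL]
  generalize idxList = l
  induction l with
  | nil => simp [sp]
  | cons w l ih => rw [List.map_cons, List.sum_cons, List.flatMap_cons, sp_append, ih, basisMat, sp_smul]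

theorem conj_check : ∀ (r : Fin 12) (c : chevG2.Idx),
    sameSp (basisL c) (combL r 0 c) ∧
    sameSp (mulL (linL r) (basisL c) ++ mulL (basisL c) (linL r)) (combL r 1 c) ∧
    sameSp (mulL (quadL r) (basisL c) ++ mulL (mulL (linL r) (basisL c)) (linL r) ++
      mulL (basisL c) (quadL r)) (combL r 2 c) ∧
    sameSp (mulL (mulL (quadL r) (basisL c)) (linL r) ++ mulL (mulL (linL r) (basisL c)) (quadL r))
      (combL r 3 c) ∧
    sameSp (mulL (mulL (quadL r) (basisL c)) (quadL r)) [] := by
  decide +kernel

theorem conj_identity (r : Fin 12) (c : chevG2.Idx) : ConjIdentity r c := by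
  obtain ⟨h0, h1, h2, h3, h4⟩ := conj_check r c
  rw [ConjIdentity, sp_combL, sp_combL, sp_combL, sp_combL]
  simp only [lin, quad, basisMat, sp_mul, ← sp_append]
  exact ⟨sp_eq h0, sp_eq h1, sp_eq h2, sp_eq h3, sp_eq_zero h4⟩

theorem square_check : ∀ r : Fin 12, sameSp (mulL (linL r) (linL r)) [] ∧
    sameSp (mulL (linL r) (quadL r) ++ mulL (quadL r) (linL r)) [] ∧
    sameSp (mulL (quadL r) (quadL r)) [] := by
  decide +kernel

theorem square_identity (r : Fin 12) : lin r * lin r = 0 ∧
    lin r * quad r + quad r * lin r = 0 ∧ quad r * quad r = 0 := by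
  obtain ⟨h1, h2, h3⟩ := square_check r
  simp only [lin, quad, sp_mul, ← sp_append]
  exact ⟨sp_eq_zero h1, sp_eq_zero h2, sp_eq_zero h3⟩

/-- The places of the alternating form. -/
def formL : List (Ix × Ix) :=
  (List.finRange 3).map (fun i => (Sum.inl i, Sum.inr i)) ++ (List.finRange 3).map (fun i => (Sum.inr i, Sum.inl i))

theorem form_eq : J (Fin 3) (ZMod 2) = sp formL := by
  ext i j
  rw [sp_apply]
  revert i j
  simp only [Sum.forall, Fin.forall_fin_succ, IsEmpty.forall_iff, and_true]
  simp [J, formL, cnt, List.finRange_succ]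

theorem form_check : ∀ r : Fin 12,
    sameSp (mulL (linL r) formL ++ mulL formL ((linL r).map Prod.swap)) [] ∧
    sameSp (mulL (quadL r) formL ++ mulL (mulL (linL r) formL) ((linL r).map Prod.swap) ++
      mulL formL ((quadL r).map Prod.swap)) [] ∧
    sameSp (mulL (mulL (quadL r) formL) ((linL r).map Prod.swap) ++
      mulL (mulL (linL r) formL) ((quadL r).map Prod.swap)) [] ∧
    sameSp (mulL (mulL (quadL r) formL) ((quadL r).map Prod.swap)) [] := by
  decide +kernel

theorem form_identity (r : Fin 12) :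
    lin r * J (Fin 3) (ZMod 2) + J (Fin 3) (ZMod 2) * (lin r)ᵀ = 0 ∧
    quad r * J (Fin 3) (ZMod 2) + lin r * J (Fin 3) (ZMod 2) * (lin r)ᵀ +
      J (Fin 3) (ZMod 2) * (quad r)ᵀ = 0 ∧
    quad r * J (Fin 3) (ZMod 2) * (lin r)ᵀ + lin r * J (Fin 3) (ZMod 2) * (quad r)ᵀ = 0 ∧
    quad r * J (Fin 3) (ZMod 2) * (quad r)ᵀ = 0 := by
  obtain ⟨h1, h2, h3, h4⟩ := form_check r
  simp only [lin, quad, form_eq, sp_transpose, sp_mul, ← sp_append]
  exact ⟨sp_eq_zero h1, sp_eq_zero h2, sp_eq_zero h3, sp_eq_zero h4⟩

/-- A place that sees only one vector. -/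
def probe : chevG2.Idx → Ix × Ix
  | Sum.inl i => if i.val = 0 then (coord 0, coord 0) else (coord 2, coord 2)
  | Sum.inr s => (linL s).headD (coord 0, coord 0)

theorem probe_check : ∀ u w : chevG2.Idx,
    (cnt (basisL w) (probe u) : ZMod 2) = if w = u then 1 else 0 := by
  decide +kernel

theorem basisMat_probe (u w : chevG2.Idx) :
    basisMat w (probe u).1 (probe u).2 = if w = u then 1 else 0 := by
  rw [basisMat, sp_apply]; exact probe_check u w

/-- Factors of the off-diagonal matrix units. -/
def wordTab : List (List (Fin 12 × Fin 12)) :=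
  [[(0, 0), (8, 5), (7, 6), (7, 11), (8, 9), (7, 9)], [(6, 3), (0, 0), (4, 8), (6, 10), (4, 11), (4, 10)], [(5, 4), (3, 7), (0, 0), (5, 11), (3, 11), (3, 10)], [(0, 4), (1, 5), (0, 6), (0, 0), (1, 9), (0, 9)], [(2, 3), (0, 7), (0, 8), (2, 10), (0, 0), (0, 10)], [(2, 4), (1, 7), (1, 8), (2, 11), (1, 11), (0, 0)]]

/-- The factors at a place. -/
def word (i j : Ix) : Fin 12 × Fin 12 := (wordTab.getD (code i) []).getD (code j) (0, 0)

theorem word_check : ∀ i j : Ix, i ≠ j →
    sameSp [(i, j)] (mulL (linL (word i j).1) (linL (word i j).2)) := by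
  decide +kernel

theorem single_eq_word (i j : Ix) (h : i ≠ j) :
    Matrix.single i j (1 : ZMod 2) = lin (word i j).1 * lin (word i j).2 := by
  have h1 : Matrix.single i j (1 : ZMod 2) = sp [(i, j)] := by simp [sp]
  rw [h1, lin, lin, sp_mul]
  exact sp_eq (word_check i j h)

/-- Every off-diagonal matrix unit is a product of two linear terms. -/
theorem single_eq_product (i j : Ix) (h : i ≠ j) :
    ∃ a b : Fin 12, Matrix.single i j (1 : ZMod 2) = lin a * lin b :=
  ⟨_, _, single_eq_word i j h⟩

end CfsgLib.Spectrum.G2
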